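import Groth.Agent.InjFibre.Alg
import Groth.Agent.InjFibre.Loc
import Groth.Agent.FlatRes.Basic
import Groth.Agent.S6285

/-!
The locus of primes at which a map onto a flat finitely presented module is bijective: it is compact open,
and is detected on fibres over fields.
-/

set_option autoImplicit false
set_option linter.style.haveILetI false
set_option maxHeartbeats 1000000
universe u

open TensorProduct

noncomputable section

namespace Groth.Agent.IsoLocus

variable {A : Type u} [CommRing A] {M N : Type u} [AddCommGroup M] [Module A M] [AddCommGroup N] [Module A N]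

/-- bijectivity at a prime, element-wise -/
def BijAt (φ : M →ₗ[A] N) (q : Ideal A) : Prop :=
  (∀ m, φ m = 0 → ∃ r ∉ q, r • m = 0) ∧ ∀ n, ∃ r ∉ q, r • n ∈ LinearMap.range φ

theorem bijAt_of_map (φ : M →ₗ[A] N) (q : Ideal A) [q.IsPrime] (S : Submonoid A) (hS : S ≤ q.primeCompl)
    {M' N' : Type u} [AddCommGroup M'] [Module A M'] [AddCommGroup N'] [Module A N'] (f : M →ₗ[A] M') (g : N →ₗ[A] N')
    [IsLocalizedModule S f] [IsLocalizedModule S g] (h : Function.Bijective (IsLocalizedModule.map S f g φ)) :
    BijAt φ q := by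
  refine ⟨fun m hm => ?_, fun n => ?_⟩
  · have : f m = 0 := h.1 (by rw [IsLocalizedModule.map_apply, hm, map_zero, map_zero])
    obtain ⟨s, hs⟩ := (IsLocalizedModule.eq_zero_iff S f).1 this
    exact ⟨s, hS s.2, hs⟩
  · obtain ⟨z, hz⟩ := h.2 (g n)
    obtain ⟨⟨m, s⟩, hs⟩ := IsLocalizedModule.surj S f z
    have h1 : g (φ m) = g ((s : A) • n) := by
      rw [← IsLocalizedModule.map_apply S f g φ m, ← hs, LinearMap.map_smul_of_tower, hz, map_smul]
      rfl
    obtain ⟨t, ht⟩ := IsLocalizedModule.exists_of_eq (S := S) h1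
    refine ⟨(t : A) * s, q.primeCompl.mul_mem (hS t.2) (hS s.2), (t : A) • m, ?_⟩
    rw [map_smul, mul_smul]
    exact ht

theorem bijective_map_of_bijAt (φ : M →ₗ[A] N) (q : Ideal A) [q.IsPrime] (hb : BijAt φ q)
    {M' N' : Type u} [AddCommGroup M'] [Module A M'] [AddCommGroup N'] [Module A N'] (f : M →ₗ[A] M') (g : N →ₗ[A] N')
    [IsLocalizedModule q.primeCompl f] [IsLocalizedModule q.primeCompl g] :
    Function.Bijective (IsLocalizedModule.map q.primeCompl f g φ) := by
  refine ⟨(injective_iff_map_eq_zero _).2 fun z hz => ?_, fun w => ?_⟩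
  · obtain ⟨⟨m, s⟩, hs⟩ := IsLocalizedModule.surj q.primeCompl f z
    have h1 : g (φ m) = 0 := by
      rw [← IsLocalizedModule.map_apply q.primeCompl f g φ m, ← hs, LinearMap.map_smul_of_tower, hz, smul_zero]
    obtain ⟨t, ht⟩ := (IsLocalizedModule.eq_zero_iff q.primeCompl g).1 h1
    obtain ⟨r, hr, hr0⟩ := hb.1 ((t : A) • m) (by rw [map_smul]; exact ht)
    have h2 : f m = 0 := (IsLocalizedModule.eq_zero_iff q.primeCompl f).2
      ⟨⟨r, hr⟩ * t, by rw [Submonoid.smul_def, Submonoid.coe_mul, mul_smul]; exact hr0⟩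
    exact IsLocalizedModule.smul_injective f s ((hs.trans h2).trans (smul_zero s).symm)
  · obtain ⟨⟨n, s⟩, hs⟩ := IsLocalizedModule.surj q.primeCompl g w
    obtain ⟨r, hr, m, hm⟩ := hb.2 n
    refine ⟨IsLocalizedModule.mk' f m (⟨r, hr⟩ * s), IsLocalizedModule.smul_injective g (⟨r, hr⟩ * s) ?_⟩
    change ((⟨r, hr⟩ : q.primeCompl) * s) • _ = ((⟨r, hr⟩ : q.primeCompl) * s) • w
    rw [← LinearMap.map_smul_of_tower, IsLocalizedModule.mk'_cancel', IsLocalizedModule.map_apply, hm, mul_smul, hs,
      map_smul]
    rfl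

theorem exists_bijective_powers [Module.Finite A M] [Module.FinitePresentation A N] (φ : M →ₗ[A] N) (q : Ideal A)
    [q.IsPrime] (hb : BijAt φ q) :
    ∃ g ∉ q, Function.Bijective (LocalizedModule.map (Submonoid.powers g) φ) := by
  obtain ⟨g, hg, h⟩ := Module.FinitePresentation.exists_notMem_bijective φ q
    (LocalizedModule.mkLinearMap q.primeCompl M) (LocalizedModule.mkLinearMap q.primeCompl N)
    (bijective_map_of_bijAt φ q hb _ _)
  exact ⟨g, hg, h⟩

variable {R : Type u} [CommRing R] [Algebra R A] [Algebra.FinitePresentation R A]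
  [Module.FinitePresentation A M] [Module.FinitePresentation A N] [Module R N] [IsScalarTower R A N] [Module.Flat R N]

/-- bijectivity at a point is detected on the fibre over a field -/
theorem bijAt_of_field (φ : M →ₗ[A] N) (q : Ideal A) [q.IsPrime] (K : Type u) [Field K] (j : R →+* K)
    (hker : RingHom.ker j = q.comap (algebraMap R A))
    (H : ∀ (D : Type u) [CommRing D] [Algebra A D] (k : K →+* D),
      k.comp j = (algebraMap A D).comp (algebraMap R A) → Function.Bijective (φ.baseChange D)) :
    BijAt φ q := by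
  let p := q.comap (algebraMap R A)
  let Aq := Localization.AtPrime q
  let J : Ideal Aq := p.map (algebraMap R Aq)
  let C := Aq ⧸ J
  let κ := p.ResidueField
  have hp1 : p ≤ RingHom.ker (algebraMap R C) := fun r hr => by
    rw [RingHom.mem_ker, IsScalarTower.algebraMap_apply R Aq C, Ideal.Quotient.algebraMap_eq, Ideal.Quotient.eq_zero_iff_mem]
    exact Ideal.mem_map_of_mem _ hr
  have hp2 : p.primeCompl ≤ (IsUnit.submonoid C).comap (algebraMap R C) := fun r hr => by
    change IsUnit (algebraMap R C r)
    rw [IsScalarTower.algebraMap_apply R Aq C]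
    refine IsUnit.map _ ?_
    rw [IsScalarTower.algebraMap_apply R A Aq]
    exact IsLocalization.map_units Aq (⟨algebraMap R A r, hr⟩ : q.primeCompl)
  let ψ : κ →+* C := Ideal.ResidueField.lift p (algebraMap R C) hp1 hp2
  let ψK : κ →+* K := Ideal.ResidueField.lift p j hker.ge fun r hr => by
    change IsUnit (j r)
    exact isUnit_iff_ne_zero.2 fun h => hr (hker.le h)
  letI : Algebra κ C := ψ.toAlgebra
  letI : Algebra κ K := ψK.toAlgebra
  haveI : SMulCommClass κ A C := ⟨fun c a x => by
    rw [Algebra.smul_def c, Algebra.smul_def c, mul_smul_comm]⟩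
  let D := C ⊗[κ] K
  let k : K →+* D := (Algebra.TensorProduct.includeRight : K →ₐ[κ] D).toRingHom
  have hk : ∀ r, k (j r) = algebraMap A D (algebraMap R A r) := fun r => by
    rw [Algebra.TensorProduct.algebraMap_apply]
    change (1 : C) ⊗ₜ[κ] j r = algebraMap A C (algebraMap R A r) ⊗ₜ[κ] (1 : K)
    rw [← IsScalarTower.algebraMap_apply R A C,
      ← Ideal.ResidueField.lift_algebraMap p (algebraMap R C) hp1 hp2 r,
      show j r = algebraMap κ K (algebraMap R κ r) from (Ideal.ResidueField.lift_algebraMap p j _ _ r).symm,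
      Algebra.algebraMap_eq_smul_one, ← TensorProduct.smul_tmul]
    rw [Algebra.smul_def, mul_one]
    rfl
  have hD : Function.Bijective (φ.baseChange D) := H D k (RingHom.ext hk)
  -- descend to `C`
  have hC : Function.Bijective (φ.baseChange C) := by
    haveI : IsScalarTower A C D := TensorProduct.isScalarTower_left
    let eM : D ⊗[C] (C ⊗[A] M) ≃ₗ[C] D ⊗[A] M := AlgebraTensorModule.cancelBaseChange A C C D M
    let eN : D ⊗[C] (C ⊗[A] N) ≃ₗ[C] D ⊗[A] N := AlgebraTensorModule.cancelBaseChange A C C D N
    have he : ∀ z, eN ((φ.baseChange C).lTensor D z) = φ.baseChange D (eM z) := fun z => by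
      induction z using TensorProduct.induction_on with
      | zero => simp
      | tmul d w =>
        induction w using TensorProduct.induction_on with
        | zero => simp
        | tmul c m => simp [eM, eN]
        | add w w' hw hw' => rw [tmul_add, map_add, map_add, map_add, map_add, hw, hw']
      | add z z' hz hz' => rw [map_add, map_add, map_add, map_add, hz, hz']
    rw [← Module.FaithfullyFlat.lTensor_bijective_iff_bijective C D]
    have : ((φ.baseChange C).lTensor D : _ → _) = eN.symm ∘ φ.baseChange D ∘ eM :=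
      funext fun z => (eN.eq_symm_apply).2 (he z)
    rw [this]
    exact eN.symm.bijective.comp (hD.comp eM.bijective)
  -- the local ring
  let φ' := φ.baseChange Aq
  let f := TensorProduct.mk A Aq M 1
  let g := TensorProduct.mk A Aq N 1
  haveI : Module.FinitePresentation Aq (Aq ⊗[A] M) := inferInstance
  haveI : Module.Flat R (Aq ⊗[A] N) := InjFibre.flat_localized (R := R) (S := A) q.primeCompl g
  let eM : C ⊗[Aq] (Aq ⊗[A] M) ≃ₗ[C] C ⊗[A] M := AlgebraTensorModule.cancelBaseChange A Aq C C M
  let eN : C ⊗[Aq] (Aq ⊗[A] N) ≃ₗ[C] C ⊗[A] N := AlgebraTensorModule.cancelBaseChange A Aq C C N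
  have he : ∀ z, eN (φ'.baseChange C z) = φ.baseChange C (eM z) := fun z => by
    induction z using TensorProduct.induction_on with
    | zero => simp
    | tmul d w =>
      induction w using TensorProduct.induction_on with
      | zero => simp
      | tmul c m => simp [eM, eN, φ']
      | add w w' hw hw' => rw [tmul_add, map_add, map_add, map_add, map_add, hw, hw']
    | add z z' hz hz' => rw [map_add, map_add, map_add, map_add, hz, hz']
  have hC' : Function.Bijective (φ'.baseChange C) := by
    have : (φ'.baseChange C : _ → _) = eN.symm ∘ φ.baseChange C ∘ eM := funext fun z => (eN.eq_symm_apply).2 (he z)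
    rw [this]
    exact eN.symm.bijective.comp (hC.comp eM.bijective)
  have hinj := InjFibre.atPrime (R := R) q φ' (fun x hx => by
    have h1 : (1 : C) ⊗ₜ[Aq] φ' x = 0 := by
      apply (TensorProduct.quotTensorEquivQuotSMul _ J).injective
      rw [map_zero, show (1 : C) = Ideal.Quotient.mk J 1 from rfl, TensorProduct.quotTensorEquivQuotSMul_mk_tmul, one_smul]
      exact (Submodule.Quotient.mk_eq_zero _).2 hx
    have h2 : (1 : C) ⊗ₜ[Aq] x = 0 := hC'.1 (by rw [LinearMap.baseChange_tmul, h1, map_zero])
    have h3 := congrArg (TensorProduct.quotTensorEquivQuotSMul _ J) h2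
    rw [map_zero, show (1 : C) = Ideal.Quotient.mk J 1 from rfl, TensorProduct.quotTensorEquivQuotSMul_mk_tmul, one_smul,
      Submodule.Quotient.mk_eq_zero] at h3
    exact h3)
  have hJ : J ≤ Ideal.jacobson (⊥ : Ideal Aq) := by
    rw [IsLocalRing.jacobson_eq_maximalIdeal _ bot_ne_top, ← Localization.AtPrime.map_eq_maximalIdeal]
    refine Ideal.map_le_iff_le_comap.2 fun r hr => ?_
    rw [Ideal.mem_comap, IsScalarTower.algebraMap_apply R A Aq]
    exact Ideal.mem_map_of_mem _ hr
  have hsurj : Function.Surjective φ' := by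
    rw [← LinearMap.range_eq_top, eq_top_iff]
    refine Submodule.le_of_le_smul_of_le_jacobson_bot Module.Finite.fg_top hJ fun y _ => ?_
    obtain ⟨z, hz⟩ := hC'.2 ((1 : C) ⊗ₜ[Aq] y)
    obtain ⟨x, rfl⟩ : ∃ x, (1 : C) ⊗ₜ[Aq] x = z := by
      obtain ⟨w, hw⟩ := Submodule.Quotient.mk_surjective _ (TensorProduct.quotTensorEquivQuotSMul _ J z)
      refine ⟨w, (TensorProduct.quotTensorEquivQuotSMul _ J).injective ?_⟩
      rw [← hw, show (1 : C) = Ideal.Quotient.mk J 1 from rfl, TensorProduct.quotTensorEquivQuotSMul_mk_tmul, one_smul]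
    rw [LinearMap.baseChange_tmul] at hz
    have h3 := congrArg (TensorProduct.quotTensorEquivQuotSMul _ J) hz
    rw [show (1 : C) = Ideal.Quotient.mk J 1 from rfl, TensorProduct.quotTensorEquivQuotSMul_mk_tmul,
      TensorProduct.quotTensorEquivQuotSMul_mk_tmul, one_smul, one_smul, Submodule.Quotient.eq] at h3
    exact Submodule.mem_sup.2 ⟨φ' x, ⟨x, rfl⟩, y - φ' x, by simpa using neg_mem h3, add_sub_cancel _ _⟩
  refine bijAt_of_map φ q q.primeCompl le_rfl f g ?_
  have hmap : IsLocalizedModule.map q.primeCompl f g φ = φ'.restrictScalars A :=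
    IsLocalizedModule.linearMap_ext q.primeCompl f g (LinearMap.ext fun m =>
      (IsLocalizedModule.map_apply q.primeCompl f g φ m).trans (LinearMap.baseChange_tmul (A := Aq) φ 1 m).symm)
  rw [hmap]
  exact ⟨hinj.1, hsurj⟩

/-- the bijectivity locus is open and compact -/
theorem isOpen_and_isCompact (R : Type u) [CommRing R] [Algebra R A] [Algebra.FinitePresentation R A]
    [Module R N] [IsScalarTower R A N] [Module.Flat R N]
    (φ : M →ₗ[A] N) :
    IsOpen {x : PrimeSpectrum A | BijAt φ x.asIdeal} ∧ IsCompact {x : PrimeSpectrum A | BijAt φ x.asIdeal} := by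
  constructor
  · refine isOpen_iff_forall_mem_open.2 fun x hx => ?_
    obtain ⟨g, hg, hb⟩ := exists_bijective_powers φ x.asIdeal hx
    refine ⟨PrimeSpectrum.basicOpen g, fun y hy => ?_, PrimeSpectrum.isOpen_basicOpen, hg⟩
    exact bijAt_of_map φ y.asIdeal (Submonoid.powers g)
      (Submonoid.powers_le.2 hy) (LocalizedModule.mkLinearMap _ M) (LocalizedModule.mkLinearMap _ N) hb
  haveI : Module.FinitePresentation A (N ⧸ LinearMap.range φ) :=
    Module.finitePresentation_of_surjective (LinearMap.range φ).mkQ (Submodule.mkQ_surjective _)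
      (by rw [Submodule.ker_mkQ]; exact Module.Finite.iff_fg.1 inferInstance)
  have hcok := S6285.result A (N ⧸ LinearMap.range φ)
  obtain ⟨t, ht⟩ := PrimeSpectrum.isCompact_isOpen_iff.1 ⟨hcok.2, hcok.1.isOpen_compl⟩
  have hsurj : ∀ x : PrimeSpectrum A, (∃ g ∈ t, g ∉ x.asIdeal) ↔ ∀ n, ∃ r ∉ x.asIdeal, r • n ∈ LinearMap.range φ := by
    intro x
    have h1 : x ∈ (Module.support A (N ⧸ LinearMap.range φ))ᶜ ↔ ∃ g ∈ t, g ∉ x.asIdeal := by
      rw [← ht, Set.mem_compl_iff, PrimeSpectrum.mem_zeroLocus, Set.not_subset]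
      rfl
    rw [← h1, Set.mem_compl_iff, Module.notMem_support_iff']
    constructor
    · intro h n
      obtain ⟨r, hr, hrn⟩ := h (Submodule.Quotient.mk n)
      exact ⟨r, hr, (Submodule.Quotient.mk_eq_zero _).1 ((Submodule.Quotient.mk_smul _ r n).trans hrn)⟩
    · intro h z
      obtain ⟨n, rfl⟩ := Submodule.Quotient.mk_surjective _ z
      obtain ⟨r, hr, hrn⟩ := h n
      exact ⟨r, hr, (Submodule.Quotient.mk_smul _ r n).symm.trans ((Submodule.Quotient.mk_eq_zero _).2 hrn)⟩
  have key : ∀ g ∈ t, IsCompact {x : PrimeSpectrum A | g ∉ x.asIdeal ∧ BijAt φ x.asIdeal} := by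
    intro g hgt
    let G := Submonoid.powers g
    let Ag := Localization G
    haveI : Algebra.FinitePresentation A Ag := IsLocalization.Away.finitePresentation g
    haveI : Algebra.FinitePresentation R Ag := Algebra.FinitePresentation.trans R A Ag
    let φg := LocalizedModule.map G φ
    haveI : Module.FinitePresentation Ag (LocalizedModule G M) :=
      Module.FinitePresentation.of_equiv (LinearEquiv.symm ((IsLocalizedModule.isBaseChange G Ag (LocalizedModule.mkLinearMap G M)).equiv).symm)
    haveI : Module.FinitePresentation Ag (LocalizedModule G N) :=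
      Module.FinitePresentation.of_equiv (LinearEquiv.symm ((IsLocalizedModule.isBaseChange G Ag (LocalizedModule.mkLinearMap G N)).equiv).symm)
    haveI : Module.Flat R (LocalizedModule G N) :=
      InjFibre.flat_localized (R := R) (S := A) G (LocalizedModule.mkLinearMap G N)
    have hgs : Function.Surjective φg := by
      intro w
      induction w using LocalizedModule.induction_on with
      | h n s =>
        have hI : ∃ k : ℕ, g ^ k • n ∈ LinearMap.range φ := by
          let I : Ideal A := (LinearMap.range φ).comap (LinearMap.toSpanSingleton A N n)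
          have hg' : g ∈ I.radical := by
            rw [Ideal.radical_eq_sInf]
            refine Submodule.mem_sInf.2 ?_
            rintro P ⟨hIP, hP⟩
            by_contra hgP
            obtain ⟨r, hr, hrn⟩ := (hsurj ⟨P, hP⟩).1 ⟨g, hgt, hgP⟩ n
            exact hr (hIP hrn)
          exact hg'
        obtain ⟨k, m, hm⟩ := hI
        refine ⟨LocalizedModule.mk m (s * ⟨g ^ k, k, rfl⟩), ?_⟩
        rw [LocalizedModule.map_mk, hm, LocalizedModule.mk_eq]
        exact ⟨1, by simp [Submonoid.smul_def, mul_smul]⟩
    haveI : Module.FinitePresentation Ag (LinearMap.ker φg) := by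
      obtain ⟨n, p, hp⟩ := Module.Finite.exists_fin' Ag (LocalizedModule G M)
      haveI := FlatRes.finitePresentation_ker (A := R) (φg ∘ₗ p) (hgs.comp hp)
      let L : LinearMap.ker (φg ∘ₗ p) →ₗ[Ag] LinearMap.ker φg :=
        (p ∘ₗ (LinearMap.ker (φg ∘ₗ p)).subtype).codRestrict _ fun z => z.2
      refine Module.finitePresentation_of_surjective L ?_ (Submodule.fg_of_fg_map_injective
        (LinearMap.ker (φg ∘ₗ p)).subtype (Submodule.injective_subtype _) ?_)
      · rintro ⟨y, hy⟩
        obtain ⟨z, rfl⟩ := hp y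
        exact ⟨⟨z, hy⟩, rfl⟩
      · have : (LinearMap.ker L).map (LinearMap.ker (φg ∘ₗ p)).subtype = LinearMap.ker p := by
          ext z
          simp only [Submodule.mem_map, LinearMap.mem_ker, Submodule.subtype_apply]
          refine ⟨?_, fun hz => ⟨⟨z, by simp [hz]⟩, Subtype.ext hz, rfl⟩⟩
          rintro ⟨⟨w, hw⟩, hw', rfl⟩
          exact congrArg Subtype.val hw'
        rw [this]
        exact Module.FinitePresentation.fg_ker p hp
    have himg : {x : PrimeSpectrum A | g ∉ x.asIdeal ∧ BijAt φ x.asIdeal} =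
        PrimeSpectrum.comap (algebraMap A Ag) '' (Module.support Ag (LinearMap.ker φg))ᶜ := by
      have hrange := PrimeSpectrum.localization_away_comap_range Ag g
      ext x
      constructor
      · rintro ⟨hgx, hb⟩
        obtain ⟨y, rfl⟩ : x ∈ Set.range (PrimeSpectrum.comap (algebraMap A Ag)) := by rw [hrange]; exact hgx
        refine ⟨y, ?_, rfl⟩
        rw [Set.mem_compl_iff, Module.notMem_support_iff']
        rintro ⟨z, hz⟩
        induction z using LocalizedModule.induction_on with
        | h m s =>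
          have h0 : LocalizedModule.mk (φ m) s = 0 := (LocalizedModule.map_mk G φ m s).symm.trans hz
          obtain ⟨c, hc⟩ := LocalizedModule.mk_eq.1 (h0.trans (LocalizedModule.zero_mk (1 : G)).symm)
          obtain ⟨r, hr, hrm⟩ := hb.1 ((c : A) • m) (by rw [map_smul]; simpa [Submonoid.smul_def] using hc)
          refine ⟨algebraMap A Ag (r * c), fun h => ?_, ?_⟩
          · rcases (PrimeSpectrum.comap (algebraMap A Ag) y).2.mem_or_mem h with h1 | h1
            · exact hr h1
            · obtain ⟨k, hk⟩ := c.2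
              exact hgx ((PrimeSpectrum.comap (algebraMap A Ag) y).2.mem_of_pow_mem k (by rwa [← hk] at h1))
          · refine Subtype.ext ?_
            change algebraMap A Ag (r * c) • LocalizedModule.mk m s = 0
            rw [algebraMap_smul, LocalizedModule.smul'_mk, mul_smul, hrm, LocalizedModule.zero_mk]
      · rintro ⟨y, hy, rfl⟩
        rw [Set.mem_compl_iff, Module.notMem_support_iff'] at hy
        have hgy : g ∉ (PrimeSpectrum.comap (algebraMap A Ag) y).asIdeal := by
          have := Set.mem_range_self (f := PrimeSpectrum.comap (algebraMap A Ag)) y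
          rw [hrange] at this
          exact this
        refine ⟨hgy, fun m hm => ?_, (hsurj _).1 ⟨g, hgt, hgy⟩⟩
        obtain ⟨r, hr, hr0⟩ := hy ⟨LocalizedModule.mk m 1, LinearMap.mem_ker.2 (by
          rw [LocalizedModule.map_mk, hm, LocalizedModule.zero_mk])⟩
        obtain ⟨⟨a, s⟩, hs⟩ := IsLocalization.surj G r
        have ha : a ∉ (PrimeSpectrum.comap (algebraMap A Ag) y).asIdeal := fun h => by
          have h1 : r * algebraMap A Ag s ∈ y.asIdeal := by rw [hs]; exact h
          rcases y.2.mem_or_mem h1 with h2 | h2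
          · exact hr h2
          · exact y.2.ne_top (Ideal.eq_top_of_isUnit_mem _ h2 (IsLocalization.map_units Ag s))
        have h3 : algebraMap A Ag a • LocalizedModule.mk m (1 : G) = 0 := by
          rw [← hs, mul_comm, mul_smul, show r • LocalizedModule.mk m (1 : G) = 0 from congrArg Subtype.val hr0,
            smul_zero]
        rw [algebraMap_smul, LocalizedModule.smul'_mk, ← LocalizedModule.zero_mk (1 : G), LocalizedModule.mk_eq] at h3
        obtain ⟨⟨_, k, rfl⟩, hc⟩ := h3
        refine ⟨g ^ k * a, fun h => ?_, by simpa [Submonoid.smul_def, mul_smul] using hc⟩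
        rcases (PrimeSpectrum.comap (algebraMap A Ag) y).2.mem_or_mem h with h1 | h1
        · exact hgy ((PrimeSpectrum.comap (algebraMap A Ag) y).2.mem_of_pow_mem k h1)
        · exact ha h1
    rw [himg]
    exact (S6285.result Ag (LinearMap.ker φg)).2.image (PrimeSpectrum.continuous_comap _)
  have huni : {x : PrimeSpectrum A | BijAt φ x.asIdeal} =
      ⋃ g ∈ (t : Set A), {x : PrimeSpectrum A | g ∉ x.asIdeal ∧ BijAt φ x.asIdeal} := by
    ext x
    simp only [Set.mem_ofPred_eq, Set.mem_iUnion, Finset.mem_coe, exists_prop]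
    exact ⟨fun h => ((hsurj x).2 h.2).imp fun g hg => ⟨hg.1, hg.2, h⟩, fun ⟨_, _, _, h⟩ => h⟩
  rw [huni]
  exact t.finite_toSet.isCompact_biUnion key

end Groth.Agent.IsoLocus
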