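import Groth.Agent.IsoLocus.Ring
import Groth.Agent.ModDesc.Func
import Groth.Agent.FlatModB.Basic
import Groth.Agent.LocFree.Props
import Groth.Agent.RZExt.Strict
import Groth.Agent.FibDepth.Global
import Groth.Agent.ConsSet.Basic
import Mathlib.RingTheory.Spectrum.Prime.Chevalley

/-!
The locus in the base over which a morphism onto a flat finitely presented module is an isomorphism.
-/

set_option autoImplicit false
set_option linter.style.haveILetI false
set_option maxHeartbeats 1000000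
set_option backward.isDefEq.respectTransparency false
set_option backward.isDefEq.respectTransparency.types false
universe u

open CategoryTheory CategoryTheory.Limits AlgebraicGeometry TopologicalSpace TensorProduct

noncomputable section

namespace Groth.Agent.IsoLocus

open Groth.Agent.QC Groth.Agent.ModDesc

variable {X S : Scheme.{u}} {F G : X.Modules} (u : F ⟶ G)

/-- sections of a morphism, linearly -/
def appL (W : X.Opens) : Γ(F, W) →ₗ[Γ(X, W)] Γ(G, W) where
  toFun := u.app W
  map_add' := map_add _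
  map_smul' r x := Scheme.Modules.Hom.app_smul u r x

theorem exists_resLin {M : X.Modules} (hM : Coh.IsQCoh M) {U : X.Opens} (hU : IsAffineOpen U) (r : Γ(X, U)) :
    letI := Module.compHom Γ(M, X.basicOpen r) (resO X (X.basicOpen_le r))
    ∃ g : Γ(M, U) →ₗ[Γ(X, U)] Γ(M, X.basicOpen r), IsLocalizedModule (Submonoid.powers r) g ∧
      ⇑g = res M (X.basicOpen_le r) := by
  letI := Module.compHom Γ(M, X.basicOpen r) (resO X (X.basicOpen_le r))
  haveI := hU.isLocalization_basicOpen r
  haveI : IsScalarTower Γ(X, U) Γ(X, X.basicOpen r) Γ(M, X.basicOpen r) :=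
    ⟨fun a c m => mul_smul (resO X (X.basicOpen_le r) a) c m⟩
  have hloc : IsLoc M U := isLoc_of_isQCoh hU (hM := hM)
  let g : Γ(M, U) →ₗ[Γ(X, U)] Γ(M, X.basicOpen r) :=
    { toFun := res M (X.basicOpen_le r)
      map_add' := map_add _
      map_smul' := fun a s => res_smul M _ a s }
  refine ⟨g, IsLocalizedModule.Away.mk_of_addCommGroup ?_ ?_ ?_, rfl⟩
  · have hu : IsUnit (algebraMap Γ(X, U) Γ(X, X.basicOpen r) r) := IsLocalization.Away.algebraMap_isUnit r
    rw [Module.End.isUnit_iff]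
    exact hu.smul_bijective
  · intro y
    obtain ⟨n, s, hs⟩ := hloc.exists_extend r y
    exact ⟨n, s, (show res M (X.basicOpen_le r) s = r ^ n • y by
      rw [hs, ← map_pow]; rfl).symm⟩
  · intro s hs
    exact hloc.exists_pow_smul_eq_zero r s hs

/-- the points near which a morphism is bijective on an affine open -/
def isoOpen : X.Opens :=
  ⟨{x | ∃ W : X.Opens, IsAffineOpen W ∧ x ∈ W ∧ Function.Bijective (u.app W)}, by
    refine isOpen_iff_forall_mem_open.2 ?_
    rintro x ⟨W, hW, hx, hb⟩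
    exact ⟨W, fun y hy => ⟨W, hW, hy, hb⟩, W.2, hx⟩⟩

theorem isIso_map_comp_iff {Z Y : Scheme.{u}} (h : Z ⟶ Y) (g : Y ⟶ X) {r : Z ⟶ X} (w : h ≫ g = r) :
    IsIso ((Scheme.Modules.pullback r).map u) ↔
      IsIso ((Scheme.Modules.pullback h).map ((Scheme.Modules.pullback g).map u)) := by
  subst w
  exact (NatIso.isIso_map_iff (Scheme.Modules.pullbackComp h g) u).symm

variable (hF : Coh.IsQCoh F) (hG : Coh.IsQCoh G)
include hF hG

theorem app_bijective_le {W D : X.Opens} (hW : IsAffineOpen W) (hb : Function.Bijective (u.app W)) (hD : D ≤ W) :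
    Function.Bijective (u.app D) := by
  haveI := isIso_restrict_of_bijective hW hF hG u hb
  obtain ⟨V, rfl⟩ : ∃ V, hW.fromSpec ''ᵁ V = D := ⟨hW.fromSpec ⁻¹ᵁ D, by
    rw [Scheme.Hom.image_preimage_eq_opensRange_inf, IsAffineOpen.opensRange_fromSpec, inf_eq_right.mpr hD]⟩
  exact ConcreteCategory.bijective_of_isIso (((Scheme.Modules.restrictFunctor hW.fromSpec).map u).app V)

theorem isIso_pullback {Y : Scheme.{u}} (a : Y ⟶ X) (ha : Set.range a ⊆ (isoOpen u : Set X)) :
    IsIso ((Scheme.Modules.pullback a).map u) := by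
  have hy : ∀ y : Y, ∃ W : X.Opens, IsAffineOpen W ∧ a y ∈ W ∧ Function.Bijective (u.app W) := fun y => ha ⟨y, rfl⟩
  choose W hW hyW hb using hy
  refine isIso_of_restrict_cover (fun y => (a ⁻¹ᵁ W y).ι)
    (fun y => ⟨y, by rw [Scheme.Opens.range_ι]; exact hyW y⟩) _ fun y => ?_
  refine ((NatIso.isIso_map_iff (Scheme.Modules.restrictFunctorIsoPullback (a ⁻¹ᵁ W y).ι) _).2 ?_)
  refine (isIso_map_comp_iff u (a ⁻¹ᵁ W y).ι a rfl).1 ?_
  have h1 : IsIso ((Scheme.Modules.pullback (hW y).fromSpec).map u) := by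
    haveI := isIso_restrict_of_bijective (hW y) hF hG u (hb y)
    exact (NatIso.isIso_map_iff (Scheme.Modules.restrictFunctorIsoPullback (hW y).fromSpec) u).1 inferInstance
  refine (isIso_map_comp_iff u ((a ∣_ W y) ≫ (hW y).isoSpec.hom) (hW y).fromSpec ?_).2 inferInstance
  rw [Category.assoc, IsAffineOpen.isoSpec_hom_fromSpec, morphismRestrict_ι]

omit hF hG in
theorem map_appL_basicOpen {W : X.Opens} (r : Γ(X, W)) :
    letI := Module.compHom Γ(G, X.basicOpen r) (resO X (X.basicOpen_le r))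
    letI := Module.compHom Γ(F, X.basicOpen r) (resO X (X.basicOpen_le r))
    ∃ L : Γ(F, X.basicOpen r) →ₗ[Γ(X, W)] Γ(G, X.basicOpen r), ⇑L = u.app (X.basicOpen r) :=
  letI := Module.compHom Γ(G, X.basicOpen r) (resO X (X.basicOpen_le r))
  letI := Module.compHom Γ(F, X.basicOpen r) (resO X (X.basicOpen_le r))
  ⟨{ toFun := u.app (X.basicOpen r)
     map_add' := map_add _
     map_smul' := fun a m => Scheme.Modules.Hom.app_smul u _ m }, rfl⟩

theorem mem_isoOpen_iff (hFp : CohB1.IsFP F) (hGp : CohB1.IsFP G) {W : X.Opens} (hW : IsAffineOpen W) {x : X}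
    (hx : x ∈ W) : x ∈ isoOpen u ↔ BijAt (appL u W) (hW.primeIdealOf ⟨x, hx⟩).asIdeal := by
  haveI : Module.FinitePresentation Γ(X, W) Γ(F, W) := LocFree.finitePresentation_sections_of_isFP hF hFp hW
  haveI : Module.FinitePresentation Γ(X, W) Γ(G, W) := LocFree.finitePresentation_sections_of_isFP hG hGp hW
  have hmem : ∀ r : Γ(X, W), x ∈ X.basicOpen r ↔ r ∉ (hW.primeIdealOf ⟨x, hx⟩).asIdeal := fun r => by
    letI := TopCat.Presheaf.algebra_section_stalk X.presheaf (U := W) ⟨x, hx⟩
    haveI := hW.isLocalization_stalk ⟨x, hx⟩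
    rw [Scheme.mem_basicOpen X r x hx]
    exact (IsLocalization.AtPrime.isUnit_to_map_iff (X.presheaf.stalk x) (hW.primeIdealOf ⟨x, hx⟩).asIdeal r)
  have key : ∀ r : Γ(X, W), (Function.Bijective (u.app (X.basicOpen r)) ↔
      Function.Bijective (LocalizedModule.map (Submonoid.powers r) (appL u W))) := fun r => by
    letI := Module.compHom Γ(G, X.basicOpen r) (resO X (X.basicOpen_le r))
    letI := Module.compHom Γ(F, X.basicOpen r) (resO X (X.basicOpen_le r))
    obtain ⟨f, hf, hf'⟩ : ∃ f : Γ(F, W) →ₗ[Γ(X, W)] Γ(F, X.basicOpen r),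
        IsLocalizedModule (Submonoid.powers r) f ∧ ⇑f = res F (X.basicOpen_le r) := by
      exact exists_resLin hF hW r
    obtain ⟨g, hg, hg'⟩ : ∃ g : Γ(G, W) →ₗ[Γ(X, W)] Γ(G, X.basicOpen r),
        IsLocalizedModule (Submonoid.powers r) g ∧ ⇑g = res G (X.basicOpen_le r) := by
      exact exists_resLin hG hW r
    obtain ⟨L, hL⟩ := map_appL_basicOpen u r
    have : IsLocalizedModule.map (Submonoid.powers r) f g (appL u W) = L :=
      IsLocalizedModule.linearMap_ext (Submonoid.powers r) f g (LinearMap.ext fun m => by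
        rw [LinearMap.comp_apply, LinearMap.comp_apply, IsLocalizedModule.map_apply, hL, hf', hg']
        exact app_res u (X.basicOpen_le r) m)
    rw [← IsLocalizedModule.map_bijective_iff_localizedModuleMap_bijective f g, this, hL]
  constructor
  · rintro ⟨W', hW', hxW', hb⟩
    obtain ⟨r, hrle, hxr⟩ := hW.exists_basicOpen_le (V := W') ⟨x, hxW'⟩ hx
    exact bijAt_of_map _ _ (Submonoid.powers r) (Submonoid.powers_le.2 ((hmem r).1 hxr))
      (LocalizedModule.mkLinearMap _ _) (LocalizedModule.mkLinearMap _ _)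
      ((key r).1 (app_bijective_le u hF hG hW' hb hrle))
  · intro hb
    obtain ⟨r, hr, hbr⟩ := exists_bijective_powers (appL u W) _ hb
    exact ⟨X.basicOpen r, hW.basicOpen r, (hmem r).2 hr, (key r).2 hbr⟩

variable (f : X ⟶ S) [LocallyOfFinitePresentation f] (hFp : CohB1.IsFP F) (hGp : CohB1.IsFP G)
  (hfl : FlatMod.IsFlatOver f G)
include hFp hGp hfl

theorem isCompact_inter {W : X.Opens} (hW : IsAffineOpen W) {V : S.Opens} (hV : IsAffineOpen V) (e : W ≤ f ⁻¹ᵁ V) :
    IsCompact {p : PrimeSpectrum Γ(X, W) | BijAt (appL u W) p.asIdeal} := by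
  letI : Algebra Γ(S, V) Γ(X, W) := (f.appLE V W e).hom.toAlgebra
  letI := FlatModB.secModule f G W V e
  haveI : IsScalarTower Γ(S, V) Γ(X, W) Γ(G, W) := IsScalarTower.of_algebraMap_smul fun _ _ => rfl
  haveI : Module.Flat Γ(S, V) Γ(G, W) := (FlatModB.flat_sections_iff f G hG hW hV e).2 fun x _ => hfl x
  haveI : Algebra.FinitePresentation Γ(S, V) Γ(X, W) :=
    (RingHom.finitePresentation_algebraMap).1
      (HasRingHomProperty.appLE @LocallyOfFinitePresentation f inferInstance ⟨V, hV⟩ ⟨W, hW⟩ e)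
  haveI : Module.FinitePresentation Γ(X, W) Γ(F, W) := LocFree.finitePresentation_sections_of_isFP hF hFp hW
  haveI : Module.FinitePresentation Γ(X, W) Γ(G, W) := LocFree.finitePresentation_sections_of_isFP hG hGp hW
  exact (isOpen_and_isCompact Γ(S, V) (appL u W)).2

/-- bijectivity near a point follows from bijectivity over a field-valued point below it -/
theorem mem_isoOpen_of_field (x : X) (K : Type u) [Field K] (t : Spec (CommRingCat.of K) ⟶ S)
    (ht : ∀ z, t z = f x) (hiso : IsIso ((Scheme.Modules.pullback (pullback.fst f t)).map u)) : x ∈ isoOpen u := by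
  obtain ⟨_, ⟨V, hV, rfl⟩, hxV, -⟩ :=
    S.isBasis_affineOpens.exists_subset_of_mem_open (Set.mem_univ (f x)) isOpen_univ
  obtain ⟨_, ⟨W, hW, rfl⟩, hxW, e⟩ :=
    X.isBasis_affineOpens.exists_subset_of_mem_open (show x ∈ (f ⁻¹ᵁ V : Set X) from hxV) (f ⁻¹ᵁ V).2
  replace e : W ≤ f ⁻¹ᵁ V := e
  replace hV : IsAffineOpen V := hV
  replace hW : IsAffineOpen W := hW
  refine (mem_isoOpen_iff u hF hG hFp hGp hW hxW).2 ?_
  letI : Algebra Γ(S, V) Γ(X, W) := (f.appLE V W e).hom.toAlgebra
  letI := FlatModB.secModule f G W V e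
  haveI : IsScalarTower Γ(S, V) Γ(X, W) Γ(G, W) := IsScalarTower.of_algebraMap_smul fun _ _ => rfl
  haveI : Module.Flat Γ(S, V) Γ(G, W) := (FlatModB.flat_sections_iff f G hG hW hV e).2 fun x _ => hfl x
  haveI : Algebra.FinitePresentation Γ(S, V) Γ(X, W) :=
    (RingHom.finitePresentation_algebraMap).1
      (HasRingHomProperty.appLE @LocallyOfFinitePresentation f inferInstance ⟨V, hV⟩ ⟨W, hW⟩ e)
  haveI : Module.FinitePresentation Γ(X, W) Γ(F, W) := LocFree.finitePresentation_sections_of_isFP hF hFp hW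
  haveI : Module.FinitePresentation Γ(X, W) Γ(G, W) := LocFree.finitePresentation_sections_of_isFP hG hGp hW
  let l : Spec (CommRingCat.of K) ⟶ Spec Γ(S, V) := IsOpenImmersion.lift hV.fromSpec t (by
    rw [hV.range_fromSpec]
    rintro _ ⟨z, rfl⟩
    rw [ht z]
    exact hxV)
  let j : Γ(S, V) →+* K := (Spec.preimage l).hom
  have htj : Spec.map (CommRingCat.ofHom j) ≫ hV.fromSpec = t := by
    rw [CommRingCat.ofHom_hom, Spec.map_preimage]
    exact IsOpenImmersion.lift_fac _ _ _
  have hfW : hW.fromSpec ≫ f = Spec.map (f.appLE V W e) ≫ hV.fromSpec := (IsAffineOpen.SpecMap_appLE_fromSpec f hV hW e).symm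
  have hker : RingHom.ker j = (hW.primeIdealOf ⟨x, hxW⟩).asIdeal.comap (algebraMap Γ(S, V) Γ(X, W)) := by
    let z : ↥(Spec (CommRingCat.of K)) := (⟨⊥, Ideal.isPrime_bot⟩ : PrimeSpectrum K)
    have h1 : Spec.map (CommRingCat.ofHom j) z = Spec.map (f.appLE V W e) (hW.primeIdealOf ⟨x, hxW⟩) := by
      apply hV.fromSpec.isOpenEmbedding.injective
      have h2 : hV.fromSpec (Spec.map (CommRingCat.ofHom j) z) = t z := congr(($htj) z)
      have h3 : f (hW.fromSpec (hW.primeIdealOf ⟨x, hxW⟩)) =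
          hV.fromSpec (Spec.map (f.appLE V W e) (hW.primeIdealOf ⟨x, hxW⟩)) := congr(($hfW) (hW.primeIdealOf ⟨x, hxW⟩))
      exact h2.trans ((ht z).trans ((congrArg f (hW.fromSpec_primeIdealOf ⟨x, hxW⟩).symm).trans h3))
    exact congrArg PrimeSpectrum.asIdeal h1
  refine bijAt_of_field (R := Γ(S, V)) (appL u W) _ K j hker fun D _ _ k hk => ?_
  let c : Γ(X, W) ⟶ CommRingCat.of D := CommRingCat.ofHom (algebraMap Γ(X, W) D)
  let a : Spec (CommRingCat.of D) ⟶ X := Spec.map c ≫ hW.fromSpec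
  have hsq : a ≫ f = Spec.map (CommRingCat.ofHom k) ≫ t := by
    rw [Category.assoc, hfW, ← htj, ← Spec.map_comp_assoc, ← Spec.map_comp_assoc]
    congr 2
    exact CommRingCat.hom_ext hk.symm
  haveI : IsIso ((Scheme.Modules.pullback a).map u) := by
    refine (isIso_map_comp_iff u (pullback.lift a (Spec.map (CommRingCat.ofHom k)) hsq) (pullback.fst f t)
      (pullback.lift_fst _ _ _)).2 ?_
    haveI := hiso
    infer_instance
  have ea : (⊤ : (Spec (CommRingCat.of D)).Opens) ≤ a ⁻¹ᵁ W := by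
    rw [Scheme.Hom.comp_preimage, hW.fromSpec_preimage_self]
    exact le_rfl
  let D' := ↑Γ(Spec (CommRingCat.of D), ⊤)
  letI : Algebra Γ(X, W) D' := (a.appLE W ⊤ ea).hom.toAlgebra
  obtain ⟨Φ, hΦ⟩ := exists_bijective_liftBaseChange a F (hH := hF) hW (isAffineOpen_top _) ea
  obtain ⟨Ψ, hΨ⟩ := exists_bijective_liftBaseChange a G (hH := hG) hW (isAffineOpen_top _) ea
  have hnat : ∀ z, Ψ ((appL u W).baseChange D' z) = ((Scheme.Modules.pullback a).map u).app ⊤ (Φ z) := fun z => by
    induction z using TensorProduct.induction_on with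
    | zero => simp
    | tmul b s =>
      rw [LinearMap.baseChange_tmul]
      have hb : ∀ {P : Type u} [AddCommGroup P] [Module Γ(X, W) P] (p : P), b ⊗ₜ[Γ(X, W)] p = b • ((1 : D') ⊗ₜ p) :=
        fun p => by rw [TensorProduct.smul_tmul', smul_eq_mul, mul_one]
      rw [hb, hb, map_smul, map_smul, hΨ, hΦ, Scheme.Modules.Hom.app_smul, app_pullSectLE]
      rfl
    | add z z' hz hz' => rw [map_add, map_add, map_add, map_add, hz, hz']
  have hD' : Function.Bijective ((appL u W).baseChange D') := by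
    have : ((appL u W).baseChange D' : _ → _) = Ψ.symm ∘ ((Scheme.Modules.pullback a).map u).app ⊤ ∘ Φ :=
      funext fun z => (Ψ.eq_symm_apply).2 (hnat z)
    rw [this]
    exact Ψ.symm.bijective.comp ((ConcreteCategory.bijective_of_isIso
      (((Scheme.Modules.pullback a).map u).app ⊤)).comp Φ.bijective)
  let eD : D' ≃ₐ[Γ(X, W)] D :=
    { (Scheme.ΓSpecIso (CommRingCat.of D)).commRingCatIsoToRingEquiv with
      commutes' := fun r => RZExt.appLE_fromSpec hW c a rfl ea r }
  let eF := TensorProduct.congr eD.toLinearEquiv (LinearEquiv.refl Γ(X, W) Γ(F, W))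
  let eG := TensorProduct.congr eD.toLinearEquiv (LinearEquiv.refl Γ(X, W) Γ(G, W))
  have : ((appL u W).baseChange D : _ → _) = eG ∘ (appL u W).baseChange D' ∘ eF.symm := funext fun z => by
    obtain ⟨w, rfl⟩ := eF.surjective z
    rw [Function.comp_apply, Function.comp_apply, LinearEquiv.symm_apply_apply]
    induction w using TensorProduct.induction_on with
    | zero => simp
    | tmul b s => rfl
    | add z z' hz hz' => rw [map_add, map_add, map_add, map_add, hz, hz']
  rw [this]
  exact eG.bijective.comp (hD'.comp eF.symm.bijective)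

omit hF hG in
theorem exists_open [IsProper f] :
    ∃ U : S.Opens, QuasiCompact U.ι ∧ ∀ (T : Scheme.{u}) (t : T ⟶ S),
      IsIso ((Scheme.Modules.pullback (pullback.fst f t)).map u) ↔ Set.range t.base ⊆ (U : Set S) := by
  have hF := FibDepth.isQCoh_of_isFP hFp
  have hG := FibDepth.isQCoh_of_isFP hGp
  let U : S.Opens := ⟨(f '' (isoOpen u : Set X)ᶜ)ᶜ, (f.isClosedMap _ (isoOpen u).2.isClosed_compl).isOpen_compl⟩
  have hU : ∀ s, s ∈ U ↔ ∀ x, f x = s → x ∈ isoOpen u := fun s =>
    ⟨fun h x hx => by_contra fun hn => h ⟨x, hn, hx⟩, fun h ⟨x, hn, hx⟩ => hn (h x hx)⟩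
  refine ⟨U, ?_, fun T t => ⟨?_, fun ht => ?_⟩⟩
  · refine quasiCompact_iff_forall_isAffineOpen.2 fun V hV => ?_
    rw [Topology.IsEmbedding.isCompact_iff U.ι.isOpenEmbedding.isEmbedding]
    have himg : U.ι '' (U.ι ⁻¹ᵁ V : Set U.toScheme) = (V : Set S) ∩ U := by
      change U.ι '' (U.ι ⁻¹' (V : Set S)) = _
      rw [Set.image_preimage_eq_inter_range, Scheme.Opens.range_ι]
    rw [himg]
    have hpre : IsCompact (f ⁻¹ᵁ V : Set X) := f.isCompact_preimage hV.isCompact
    obtain ⟨I, hI, hcov⟩ := isCompact_iff_finite_and_eq_biUnion_affineOpens.1 hpre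
    let π : ↥V → ↥(Spec Γ(S, V)) := fun s => hV.primeIdealOf s
    -- the bad set in the coordinates of `V`
    let Z : Set (PrimeSpectrum Γ(S, V)) := ⋃ W ∈ I, ⋃ (e : (W : X.affineOpens).1 ≤ f ⁻¹ᵁ V),
      PrimeSpectrum.comap (f.appLE V W.1 e).hom '' {p : PrimeSpectrum Γ(X, W.1) | BijAt (appL u W.1) p.asIdeal}ᶜ
    have hZc : Topology.IsConstructible Z := by
      refine Topology.IsConstructible.biUnion hI fun W hW => ?_
      by_cases e : W.1 ≤ f ⁻¹ᵁ V
      · have h1 : ⋃ (e : (W : X.affineOpens).1 ≤ f ⁻¹ᵁ V),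
            PrimeSpectrum.comap (f.appLE V W.1 e).hom '' {p : PrimeSpectrum Γ(X, W.1) | BijAt (appL u W.1) p.asIdeal}ᶜ =
            PrimeSpectrum.comap (f.appLE V W.1 e).hom '' {p : PrimeSpectrum Γ(X, W.1) | BijAt (appL u W.1) p.asIdeal}ᶜ := by
          simp [e]
        rw [h1]
        refine PrimeSpectrum.isConstructible_comap_image
          (HasRingHomProperty.appLE @LocallyOfFinitePresentation f inferInstance ⟨V, hV⟩ W e) ?_
        have hop : IsOpen {p : PrimeSpectrum Γ(X, W.1) | BijAt (appL u W.1) p.asIdeal} := by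
          haveI : Module.FinitePresentation Γ(X, W.1) Γ(F, W.1) := LocFree.finitePresentation_sections_of_isFP hF hFp W.2
          haveI : Module.FinitePresentation Γ(X, W.1) Γ(G, W.1) := LocFree.finitePresentation_sections_of_isFP hG hGp W.2
          refine isOpen_iff_forall_mem_open.2 fun p hp => ?_
          obtain ⟨g, hg, hb⟩ := exists_bijective_powers _ p.asIdeal hp
          exact ⟨PrimeSpectrum.basicOpen g, fun q hq => bijAt_of_map _ q.asIdeal (Submonoid.powers g)
            (Submonoid.powers_le.2 hq) (LocalizedModule.mkLinearMap _ _) (LocalizedModule.mkLinearMap _ _) hb,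
            PrimeSpectrum.isOpen_basicOpen, hg⟩
        exact ((isCompact_inter u hF hG f hFp hGp hfl W.2 hV e).isConstructible hop).compl
      · simp [e]
    have hVU : (V : Set S) ∩ U = hV.fromSpec '' Zᶜ := by
      ext s
      constructor
      · rintro ⟨hsV, hsU⟩
        refine ⟨hV.primeIdealOf ⟨s, hsV⟩, ?_, hV.fromSpec_primeIdealOf ⟨s, hsV⟩⟩
        simp only [Z, Set.mem_compl_iff, Set.mem_iUnion, Set.mem_image]
        rintro ⟨W, hW, e, p, hp, hps⟩
        refine hp ?_
        have hxW : W.2.fromSpec p ∈ W.1 := W.2.range_fromSpec.subset ⟨p, rfl⟩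
        have hfx : f (W.2.fromSpec p) = s := by
          have h1 : f (W.2.fromSpec p) = hV.fromSpec (PrimeSpectrum.comap (f.appLE V W.1 e).hom p) := by
            rw [← Scheme.Hom.comp_apply, ← IsAffineOpen.SpecMap_appLE_fromSpec f hV W.2 e]
            rfl
          rw [h1, hps]
          exact hV.fromSpec_primeIdealOf ⟨s, hsV⟩
        have h2 := (mem_isoOpen_iff u hF hG hFp hGp W.2 hxW).1 ((hU s).1 hsU _ hfx)
        rwa [show W.2.primeIdealOf ⟨W.2.fromSpec p, hxW⟩ = p from
          W.2.fromSpec.isOpenEmbedding.injective (W.2.fromSpec_primeIdealOf _)] at h2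
      · rintro ⟨p, hp, rfl⟩
        have hsV : hV.fromSpec p ∈ V := hV.range_fromSpec.subset ⟨p, rfl⟩
        refine ⟨hsV, (hU _).2 fun x hx => ?_⟩
        have hxV : x ∈ (f ⁻¹ᵁ V : Set X) := by change f x ∈ V; rw [hx]; exact hsV
        rw [SetLike.mem_coe, hcov, Opens.mem_iSup] at hxV
        obtain ⟨W, hxV⟩ := hxV
        obtain ⟨hWI, hxW⟩ := Opens.mem_iSup.1 hxV
        have e : W.1 ≤ f ⁻¹ᵁ V := fun y hy => by
          rw [hcov, Opens.mem_iSup]
          exact ⟨W, Opens.mem_iSup.2 ⟨hWI, hy⟩⟩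
        refine (mem_isoOpen_iff u hF hG hFp hGp W.2 hxW).2 (by_contra fun hn => hp ?_)
        simp only [Z, Set.mem_iUnion, Set.mem_image]
        refine ⟨W, hWI, e, W.2.primeIdealOf ⟨x, hxW⟩, hn, hV.fromSpec.isOpenEmbedding.injective ?_⟩
        change hV.fromSpec (Spec.map (f.appLE V W.1 e) (W.2.primeIdealOf ⟨x, hxW⟩)) = _
        rw [← Scheme.Hom.comp_apply, IsAffineOpen.SpecMap_appLE_fromSpec f hV W.2 e, Scheme.Hom.comp_apply,
          W.2.fromSpec_primeIdealOf ⟨x, hxW⟩, hx]
    rw [hVU]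
    exact ((ConsSet.isRetrocompact hZc.compl).isCompact).image hV.fromSpec.continuous
  · intro hiso
    rintro _ ⟨y, rfl⟩
    refine (hU _).2 fun x hx => mem_isoOpen_of_field u hF hG f hFp hGp hfl x (T.residueField y)
      (T.fromSpecResidueField y ≫ t) (fun z => ?_) ?_
    · rw [Scheme.Hom.comp_apply]
      exact (congrArg t (T.fromSpecResidueField_apply y z)).trans hx.symm
    · refine (isIso_map_comp_iff u (pullback.map f (T.fromSpecResidueField y ≫ t) f t (𝟙 X)
        (T.fromSpecResidueField y) (𝟙 S) (by simp) (by simp)) (pullback.fst f t) (by simp)).2 ?_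
      haveI := hiso
      infer_instance
  · refine isIso_pullback u hF hG _ ?_
    rintro _ ⟨y, rfl⟩
    refine (hU _).1 (ht ⟨pullback.snd f t y, rfl⟩) _ ?_
    rw [← Scheme.Hom.comp_apply, pullback.condition, Scheme.Hom.comp_apply]

end Groth.Agent.IsoLocus
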